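import Cfsg.Agent.R2.T1.Mu2.Line
import Cfsg.Agent.R2.T1.T1p.Comb
import Cfsg.Agent.H952.F4.Gen
import Cfsg.Agent.H952.F4.Scott
import Cfsg.Agent.R2.T1.Inf.Aut

/-!
# T1 (S5771, p = 2, n = 8): the fixed space of `A_6` and its translates (helper24)

* `US ψ` : the fixed space of the stabilizer of the points 6, 7; `dim_US : 6 ≤ finrank F (US ψ)`;
* `W ψ u i j` : the translates of `u ∈ US ψ`; `tri`, `W_symm`;
* `exists_U0` : a subspace of dimension at least 3 on which the elements of `H` act as elements of `A_8`.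
-/

set_option autoImplicit false
set_option maxRecDepth 100000

namespace Cfsg.Agent.R2.T1.T1p

open Cfsg Cfsg.Lie Module Equiv Equiv.Perm
open Cfsg.Agent.H943.E7V.Block (D1 rho)
open Cfsg.Agent.H952.F4 (ev es MaxAlt)
open Cfsg.Agent.H251.E6 (type_up up_last upP_apply coe_up)
open Cfsg.Agent.R2.T1

universe u

/-- the alternating group of degree 8 -/
abbrev A8 : Type := ↥(alternatingGroup (Fin 8))

variable {F : Type u} [Field F]

theorem fixed_of_ev_zero {T : Module.End F (D1 → F)} (h : ev T 1 = 0) {v : D1 → F} (hv : T v = v) : v = 0 := by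
  have h1 : Module.End.eigenspace T 1 = ⊥ := Submodule.finrank_eq_zero.1 h
  have h2 : v ∈ Module.End.eigenspace T 1 := by rw [Module.End.mem_eigenspace_iff, one_smul]; exact hv
  rw [h1] at h2
  exact (Submodule.mem_bot F).1 h2

section US
variable (ψ : A8 →* Gh F)

/-- the vectors fixed by the stabilizer of 6 and 7 -/
def US : Submodule F (D1 → F) where
  carrier := {v | ∀ a : A8, (a : Perm (Fin 8)) 6 = 6 → (a : Perm (Fin 8)) 7 = 7 → V F (ψ a) v = v}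
  add_mem' := by
    intro v w hv hw a h6 h7
    rw [map_add, hv a h6 h7, hw a h6 h7]
  zero_mem' := by
    intro a _ _
    rw [map_zero]
  smul_mem' := by
    intro c v hv a h6 h7
    rw [map_smul, hv a h6 h7]

variable {ψ}

theorem mem_US {v : D1 → F} : v ∈ US ψ ↔ ∀ a : A8, (a : Perm (Fin 8)) 6 = 6 → (a : Perm (Fin 8)) 7 = 7 →
    V F (ψ a) v = v := Iff.rfl

theorem dim_US (h3 : ∀ a : A8, (a : Perm (Fin 8)).cycleType = {3} → ev (V F (ψ a)) 1 = 32)
    (h33 : ∀ a : A8, (a : Perm (Fin 8)).cycleType = {3, 3} → ev (V F (ψ a)) 1 = 20)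
    (h5 : ∀ a : A8, (a : Perm (Fin 8)).cycleType = {5} → ev (V F (ψ a)) 1 = 16) : 6 ≤ finrank F (US ψ) := by
  obtain ⟨x, y, hgen, hx, hy, hxy⟩ := Cfsg.Agent.H952.F4.Gen.gen6b
  let ρ : Representation F ↥(alternatingGroup (Fin 6)) (D1 → F) := (V F).comp (ψ.comp (Cfsg.Agent.H251.E6.up.comp Cfsg.Agent.H251.E6.up))
  have h := Cfsg.Agent.H952.F4.Scott.scott_form ρ hgen (sf F) (fun v hv => sf_nondeg' hv) (fun g v w => sf_V _ v w)
  have e1 : ev (ρ x) 1 = 32 := h3 (Cfsg.Agent.H251.E6.up (Cfsg.Agent.H251.E6.up x)) (by rw [type_up, type_up, hx])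
  have e2 : ev (ρ y) 1 = 20 := h33 (Cfsg.Agent.H251.E6.up (Cfsg.Agent.H251.E6.up y)) (by rw [type_up, type_up, hy])
  have e3 : ev (ρ (x * y)) 1 = 16 := h5 (Cfsg.Agent.H251.E6.up (Cfsg.Agent.H251.E6.up (x * y))) (by rw [type_up, type_up, hxy])
  rw [e1, e2, e3, finrank_V] at h
  have hle : ρ.invariants ≤ US ψ := by
    intro v hv a h6 h7
    rw [Representation.mem_invariants] at hv
    obtain ⟨b, rfl⟩ := exists_up (a := a) h7
    have hb : (b : Perm (Fin 7)) (Fin.last 6) = Fin.last 6 := by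
      have h8 : ((Cfsg.Agent.H251.E6.up b : ↥(alternatingGroup (Fin 8))) : Perm (Fin 8)) (Fin.last 6).castSucc = (Fin.last 6).castSucc := h6
      rw [coe_up, upP_apply] at h8
      exact Fin.castSucc_injective _ h8
    obtain ⟨c, rfl⟩ := exists_up (a := b) hb
    exact hv c
  have h4 := Submodule.finrank_mono hle
  omega

end US

/-! ### translates -/

section W
variable {ψ : A8 →* Gh F}

/-- an even permutation with given images of 6 and 7 -/
noncomputable def pick (i j : Fin 8) (h : i ≠ j) : A8 := (exists2 h).choose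

theorem pick_spec {i j : Fin 8} (h : i ≠ j) : (pick i j h : Perm (Fin 8)) 6 = i ∧ (pick i j h : Perm (Fin 8)) 7 = j :=
  (exists2 h).choose_spec

open Classical in
/-- the translates -/
noncomputable def W (ψ : A8 →* Gh F) (u : D1 → F) (i j : Fin 8) : D1 → F :=
  if h : i ≠ j then V F (ψ (pick i j h)) u else 0

theorem W_eq {u : D1 → F} (hu : u ∈ US ψ) {a : A8} {i j : Fin 8} (h6 : (a : Perm (Fin 8)) 6 = i)
    (h7 : (a : Perm (Fin 8)) 7 = j) : V F (ψ a) u = W ψ u i j := by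
  have hij : i ≠ j := by
    rintro rfl
    exact absurd ((a : Perm (Fin 8)).injective (h6.trans h7.symm)) (by decide)
  obtain ⟨p6, p7⟩ := pick_spec hij
  unfold W
  rw [dif_pos hij]
  set p := pick i j hij with hp
  have h1 : V F (ψ (p⁻¹ * a)) u = u := by
    apply hu
    · show ((p : Perm (Fin 8))⁻¹) ((a : Perm (Fin 8)) 6) = 6
      rw [Perm.inv_eq_iff_eq, p6]; exact h6
    · show ((p : Perm (Fin 8))⁻¹) ((a : Perm (Fin 8)) 7) = 7
      rw [Perm.inv_eq_iff_eq, p7]; exact h7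
  conv_rhs => rw [← h1]
  rw [← V_mul, ← map_mul, mul_inv_cancel_left]

theorem W_act {u : D1 → F} (hu : u ∈ US ψ) (b : A8) {i j : Fin 8} (hij : i ≠ j) :
    V F (ψ b) (W ψ u i j) = W ψ u ((b : Perm (Fin 8)) i) ((b : Perm (Fin 8)) j) := by
  obtain ⟨p6, p7⟩ := pick_spec hij
  rw [← W_eq hu p6 p7, ← V_mul, ← map_mul]
  apply W_eq hu
  · show (b : Perm (Fin 8)) ((pick i j hij : Perm (Fin 8)) 6) = _
    rw [p6]
  · show (b : Perm (Fin 8)) ((pick i j hij : Perm (Fin 8)) 7) = _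
    rw [p7]

theorem W_self {u : D1 → F} (hu : u ∈ US ψ) : W ψ u 6 7 = u := by
  have h := W_eq (a := 1) hu (i := 6) (j := 7) rfl rfl
  rw [← h, map_one, V_one]

/-- the element of type `{5, 3}` -/
def c53 : A8 := ⟨c[0, 1, 2, 3, 4] * c[5, 6, 7], by rw [mem_alternatingGroup]; decide +kernel⟩

theorem type_c53 : (c53 : Perm (Fin 8)).cycleType = {5, 3} := by decide +kernel

/-- **triangle sums** -/
theorem tri (h53 : ∀ a : A8, (a : Perm (Fin 8)).cycleType = {5, 3} → ev (V F (ψ a)) 1 = 0) {u : D1 → F} (hu : u ∈ US ψ)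
    {i j k : Fin 8} (hij : i ≠ j) (hjk : j ≠ k) (hik : i ≠ k) : W ψ u i j + W ψ u j k + W ψ u k i = 0 := by
  have h0 : W ψ u 5 6 + W ψ u 6 7 + W ψ u 7 5 = 0 := by
    apply fixed_of_ev_zero (h53 c53 type_c53)
    rw [map_add, map_add, W_act hu c53 (by decide), W_act hu c53 (by decide), W_act hu c53 (by decide)]
    have e5 : (c53 : Perm (Fin 8)) 5 = 6 := by decide +kernel
    have e6 : (c53 : Perm (Fin 8)) 6 = 7 := by decide +kernel
    have e7 : (c53 : Perm (Fin 8)) 7 = 5 := by decide +kernel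
    rw [e5, e6, e7]
    abel
  obtain ⟨a, a5, a6, a7⟩ := exists3 hij hjk hik
  have h1 := congrArg (V F (ψ a)) h0
  rw [map_add, map_add, map_zero, W_act hu a (by decide), W_act hu a (by decide), W_act hu a (by decide), a5, a6, a7] at h1
  exact h1

theorem add_self_zero (h2 : (2 : F) = 0) (v : D1 → F) : v + v = 0 := by
  funext a
  rw [Pi.add_apply, Pi.zero_apply]
  linear_combination (v a) * h2

theorem W_symm (h2 : (2 : F) = 0) (h53 : ∀ a : A8, (a : Perm (Fin 8)).cycleType = {5, 3} → ev (V F (ψ a)) 1 = 0)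
    {u : D1 → F} (hu : u ∈ US ψ) {i j : Fin 8} (hij : i ≠ j) : W ψ u i j = W ψ u j i :=
  sym_of_tri (W := W ψ u) (add_self_zero h2) (fun _ _ _ h1 h2 h3 => tri h53 hu h1 h2 h3) hij

end W

/-! ### the outer elements -/

section outer
variable {H : Subgroup ↥(chevE7.group F)} {φ : A8 →* ↥(chevE7.group F)} {ψ : A8 →* Gh F}

theorem ad_inj2 (h2 : (2 : F) = 0) {g h : Gh F} (hgh : ad F g = ad F h) : g = h := by
  rcases ad_eq_iff.1 hgh with h1 | h1
  · exact h1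
  · apply V_injective
    rw [h1]
    refine LinearMap.ext fun v => ?_
    rw [LinearMap.neg_apply]
    exact neg_eq_of_add_eq_zero_left (add_self_zero h2 _)

theorem cent_one (h2 : (2 : F) = 0) (hM : MaxAlt H 8 φ) (hψ : Lift φ ψ) {g : Gh F} (hg : ∀ a, g * ψ a * g⁻¹ = ψ a) : g = 1 := by
  apply ad_inj2 h2
  rw [map_one]
  apply centralizer_eq hM (by norm_num)
  intro a
  rw [← hψ a, ← map_mul, ← map_mul]
  congr 1
  have h := hg a
  rw [mul_inv_eq_iff_eq_mul] at h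
  exact h.symm

theorem perm_lift (h2 : (2 : F) = 0) (hM : MaxAlt H 8 φ) (hψ : Lift φ ψ) {g : Gh F} (hg : ad F g ∈ H) :
    ∃ σ : Perm (Fin 8), ∀ a b : A8, (b : Perm (Fin 8)) = σ * a * σ⁻¹ → g * ψ a * g⁻¹ = ψ b := by
  obtain ⟨σ, hσ⟩ := exists_perm (by norm_num) hM hg
  refine ⟨σ, fun a b hab => ad_inj2 h2 ?_⟩
  rw [map_mul, map_mul, map_inv, hψ, hψ]
  exact hσ a b hab

theorem exists_U0 [Finite F] (h2 : (2 : F) = 0) (hM : MaxAlt H 8 φ) (hψ : Lift φ ψ) (hdim : 6 ≤ finrank F (US ψ)) :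
    ∃ U0 : Submodule F (D1 → F), U0 ≤ US ψ ∧ 3 ≤ finrank F U0 ∧ ∀ g : Gh F, ad F g ∈ H → ∀ u ∈ U0, ∃ π : A8,
      V F g u = V F (ψ π) u := by
  -- conjugation by an odd element
  have hodd : ∀ σ : Perm (Fin 8), sign σ = -1 → σ * swap 6 7 ∈ alternatingGroup (Fin 8) := by
    intro σ hσ
    rw [mem_alternatingGroup, Perm.sign_mul, hσ, sign_swap (by decide)]
    decide
  have hs : (swap 6 7 : Perm (Fin 8))⁻¹ = swap 6 7 := swap_inv _ _
  have hconj : ∀ (σ : Perm (Fin 8)) (a : A8), σ * (a : Perm (Fin 8)) * σ⁻¹ ∈ alternatingGroup (Fin 8) := by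
    intro σ a
    rw [mem_alternatingGroup, Perm.sign_mul, Perm.sign_mul, mem_alternatingGroup.1 a.2, mul_one, Perm.sign_inv,
      Int.units_mul_self]
  have heven : ∀ g : Gh F, ∀ σ : Perm (Fin 8), (∀ a b : A8, (b : Perm (Fin 8)) = σ * (a : Perm (Fin 8)) * σ⁻¹ → g * ψ a * g⁻¹ = ψ b) →
      ∀ hσ : σ ∈ alternatingGroup (Fin 8), g = ψ ⟨σ, hσ⟩ := by
    intro g σ h hσ
    have h1 : (ψ ⟨σ, hσ⟩)⁻¹ * g = 1 := by
      apply cent_one h2 hM hψ
      intro a
      have h3 := h a ⟨σ * (a : Perm (Fin 8)) * σ⁻¹, hconj σ a⟩ rfl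
      have e : (⟨σ * (a : Perm (Fin 8)) * σ⁻¹, hconj σ a⟩ : A8) = ⟨σ, hσ⟩ * a * ⟨σ, hσ⟩⁻¹ := rfl
      rw [e, map_mul, map_mul, map_inv] at h3
      calc (ψ ⟨σ, hσ⟩)⁻¹ * g * ψ a * ((ψ ⟨σ, hσ⟩)⁻¹ * g)⁻¹ = (ψ ⟨σ, hσ⟩)⁻¹ * (g * ψ a * g⁻¹) * ψ ⟨σ, hσ⟩ := by group
        _ = ψ a := by rw [h3]; group
    exact (inv_mul_eq_one.1 h1).symm
  by_cases hall : ∀ g : Gh F, ad F g ∈ H → ∃ π : A8, g = ψ π
  · refine ⟨US ψ, le_rfl, by omega, fun g hg u _ => ?_⟩
    obtain ⟨π, rfl⟩ := hall g hg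
    exact ⟨π, rfl⟩
  push Not at hall
  obtain ⟨g0, hg0, hne⟩ := hall
  obtain ⟨σ0, hσ0⟩ := perm_lift h2 hM hψ hg0
  have hs0 : sign σ0 = -1 := by
    rcases Int.units_eq_one_or (sign σ0) with h | h
    · exact absurd (heven g0 σ0 hσ0 (mem_alternatingGroup.2 h)) (hne _)
    · exact h
  -- reduction to the transposition
  have hred : ∀ g : Gh F, ∀ σ : Perm (Fin 8), (∀ a b : A8, (b : Perm (Fin 8)) = σ * (a : Perm (Fin 8)) * σ⁻¹ → g * ψ a * g⁻¹ = ψ b) →
      ∀ hσ : σ * swap 6 7 ∈ alternatingGroup (Fin 8), ∀ a b : A8, (b : Perm (Fin 8)) = swap 6 7 * (a : Perm (Fin 8)) * swap 6 7 →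
        ((ψ ⟨σ * swap 6 7, hσ⟩)⁻¹ * g) * ψ a * ((ψ ⟨σ * swap 6 7, hσ⟩)⁻¹ * g)⁻¹ = ψ b := by
    intro g σ h hσ a b hb
    have h3 := h a ⟨σ * (a : Perm (Fin 8)) * σ⁻¹, hconj σ a⟩ rfl
    have e : (⟨σ * (a : Perm (Fin 8)) * σ⁻¹, hconj σ a⟩ : A8) = ⟨σ * swap 6 7, hσ⟩ * b * (⟨σ * swap 6 7, hσ⟩ : A8)⁻¹ := by
      apply Subtype.ext
      show σ * (a : Perm (Fin 8)) * σ⁻¹ = σ * swap 6 7 * (b : Perm (Fin 8)) * (σ * swap 6 7)⁻¹
      rw [hb, mul_inv_rev, hs]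
      have h4 : (swap 6 7 : Perm (Fin 8)) * swap 6 7 = 1 := swap_mul_self _ _
      calc σ * (a : Perm (Fin 8)) * σ⁻¹ = σ * (swap 6 7 * swap 6 7) * (a : Perm (Fin 8)) * (swap 6 7 * swap 6 7) * σ⁻¹ := by
            rw [h4, mul_one, mul_one]
        _ = _ := by simp only [mul_assoc]
    rw [e, map_mul, map_mul, map_inv] at h3
    calc _ = (ψ ⟨σ * swap 6 7, hσ⟩)⁻¹ * (g * ψ a * g⁻¹) * ψ ⟨σ * swap 6 7, hσ⟩ := by group
      _ = ψ b := by rw [h3]; group
  set t0 : Gh F := (ψ ⟨σ0 * swap 6 7, hodd σ0 hs0⟩)⁻¹ * g0 with ht0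
  have ht : ∀ a b : A8, (b : Perm (Fin 8)) = swap 6 7 * (a : Perm (Fin 8)) * swap 6 7 → t0 * ψ a * t0⁻¹ = ψ b := hred g0 σ0 hσ0 (hodd σ0 hs0)
  have hss : ∀ a : Perm (Fin 8), swap 6 7 * (swap 6 7 * a * swap 6 7) * swap 6 7 = a := by
    intro a
    have h4 : (swap 6 7 : Perm (Fin 8)) * swap 6 7 = 1 := swap_mul_self _ _
    calc _ = (swap 6 7 * swap 6 7) * a * (swap 6 7 * swap 6 7) := by simp only [mul_assoc]
      _ = a := by rw [h4, one_mul, mul_one]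
  have hcs : ∀ a : A8, swap 6 7 * (a : Perm (Fin 8)) * swap 6 7 ∈ alternatingGroup (Fin 8) := by
    intro a
    have := hconj (swap 6 7) a
    rwa [hs] at this
  have ht2 : t0 * t0 = 1 := by
    apply cent_one h2 hM hψ
    intro a
    have h3 := ht a ⟨_, hcs a⟩ rfl
    have h4 := ht ⟨_, hcs a⟩ a (hss _).symm
    calc t0 * t0 * ψ a * (t0 * t0)⁻¹ = t0 * (t0 * ψ a * t0⁻¹) * t0⁻¹ := by group
      _ = ψ a := by rw [h3, h4]
  have hgen : ∀ g : Gh F, ad F g ∈ H → ∃ π : A8, g = ψ π ∨ g = ψ π * t0 := by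
    intro g hg
    obtain ⟨σ, hσ⟩ := perm_lift h2 hM hψ hg
    rcases Int.units_eq_one_or (sign σ) with h | h
    · exact ⟨_, Or.inl (heven g σ hσ (mem_alternatingGroup.2 h))⟩
    · refine ⟨⟨σ * swap 6 7, hodd σ h⟩, Or.inr ?_⟩
      have h3 := hred g σ hσ (hodd σ h)
      set t1 : Gh F := (ψ ⟨σ * swap 6 7, hodd σ h⟩)⁻¹ * g with ht1
      have h4 : t1 * t0 = 1 := by
        apply cent_one h2 hM hψ
        intro a
        have h5 := ht a ⟨_, hcs a⟩ rfl
        have h6 := h3 ⟨_, hcs a⟩ a (hss _).symm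
        calc t1 * t0 * ψ a * (t1 * t0)⁻¹ = t1 * (t0 * ψ a * t0⁻¹) * t1⁻¹ := by group
          _ = ψ a := by rw [h5, h6]
      have h5 : t1 = t0 := by
        calc t1 = t1 * (t0 * t0) := by rw [ht2, mul_one]
          _ = (t1 * t0) * t0 := by group
          _ = t0 := by rw [h4, one_mul]
      rw [← h5, ht1]; group
  -- `US` is stable under `t0`
  have hst : ∀ u ∈ US ψ, V F t0 u ∈ US ψ := by
    intro u hu a h6 h7
    have h3 := ht ⟨_, hcs a⟩ a (hss _).symm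
    have h4 : V F (ψ a) (V F t0 u) = V F t0 (V F (ψ ⟨_, hcs a⟩) u) := by
      rw [← h3, ← V_mul, ← V_mul]
      congr 2
      group
    rw [h4, hu ⟨_, hcs a⟩]
    · show swap 6 7 ((a : Perm (Fin 8)) (swap 6 7 6)) = 6
      rw [swap_apply_left, h7, swap_apply_right]
    · show swap 6 7 ((a : Perm (Fin 8)) (swap 6 7 7)) = 7
      rw [swap_apply_right, h6, swap_apply_left]
  let T : ↥(US ψ) →ₗ[F] ↥(US ψ) := (V F t0).restrict hst - LinearMap.id
  have hT : ∀ u : ↥(US ψ), ((T u : ↥(US ψ)) : D1 → F) = V F t0 u - u := fun u => rfl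
  have hle : LinearMap.range T ≤ LinearMap.ker T := by
    rintro _ ⟨u, rfl⟩
    rw [LinearMap.mem_ker]
    apply Subtype.ext
    rw [hT, hT, map_sub, ← V_mul, ht2, V_one, ZeroMemClass.coe_zero]
    have h5 := add_self_zero h2 (V F t0 (u : D1 → F))
    have h6 := add_self_zero h2 ((u : D1 → F))
    calc (u : D1 → F) - V F t0 u - (V F t0 u - u) = ((u : D1 → F) + u) - (V F t0 u + V F t0 u) := by abel
      _ = 0 := by rw [h5, h6, sub_zero]
  have h7 := LinearMap.finrank_range_add_finrank_ker T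
  have h8 := Submodule.finrank_mono hle
  refine ⟨(LinearMap.ker T).map (US ψ).subtype, ?_, ?_, ?_⟩
  · rintro _ ⟨u, -, rfl⟩
    exact u.2
  · rw [Submodule.finrank_map_subtype_eq]
    omega
  · rintro g hg _ ⟨u, hu, rfl⟩
    obtain ⟨π, h9 | h9⟩ := hgen g hg
    · exact ⟨π, by rw [h9]⟩
    · refine ⟨π, ?_⟩
      have h10 : V F t0 (u : D1 → F) = u := by
        have h11 := congrArg Subtype.val (LinearMap.mem_ker.1 hu)
        rw [hT, ZeroMemClass.coe_zero, sub_eq_zero] at h11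
        exact h11
      rw [h9, V_mul]
      show V F (ψ π) (V F t0 (u : D1 → F)) = V F (ψ π) (u : D1 → F)
      rw [h10]

end outer

end Cfsg.Agent.R2.T1.T1p
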